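import Groth.Agent.ReqForms45.Line
import Mathlib.RingTheory.PowerSeries.Trunc
import Mathlib.RingTheory.PowerSeries.Inverse
import Mathlib.RingTheory.PowerSeries.Order
import Mathlib.RingTheory.MvPolynomial.Basic
import Mathlib.RingTheory.Localization.Away.Basic
import Mathlib.RingTheory.Localization.Integer
import Mathlib.RingTheory.FiniteType

/-!
# Approximation of arcs by rational curves
-/

set_option autoImplicit false
set_option linter.style.haveILetI false

universe u

open Polynomial

noncomputable section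

namespace Groth.Agent.ReqArc45

open Groth.Agent.ReqForms45

variable {k : Type u} [Field k] {n : ℕ}

/-- Affine coordinates of homogeneous ones. -/
def affineCoord {L : Type u} [Field L] (z : Option (Fin n) → L) : Fin n → L := fun i => z (some i) / z none

/-- Homogenisation. -/
theorem exists_homog (G : MvPolynomial (Fin n) k) :
    ∃ (D : ℕ) (H : MvPolynomial (Option (Fin n)) k), ∀ (L : Type u) [Field L] [Algebra k L]
      (z : Option (Fin n) → L), z none ≠ 0 →
        MvPolynomial.aeval z H = z none ^ D * MvPolynomial.aeval (affineCoord z) G := by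
  induction G using MvPolynomial.induction_on with
  | C c => exact ⟨0, MvPolynomial.C c, fun L _ _ z _ => by simp⟩
  | add p q hp hq =>
    obtain ⟨D, H, hH⟩ := hp
    obtain ⟨D', H', hH'⟩ := hq
    refine ⟨D + D', MvPolynomial.X none ^ D' * H + MvPolynomial.X none ^ D * H', fun L _ _ z hz => ?_⟩
    simp only [map_add, map_mul, map_pow, MvPolynomial.aeval_X, hH L z hz, hH' L z hz]
    ring
  | mul_X p i hp =>
    obtain ⟨D, H, hH⟩ := hp
    refine ⟨D + 1, H * MvPolynomial.X (some i), fun L _ _ z hz => ?_⟩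
    simp only [map_mul, MvPolynomial.aeval_X, hH L z hz, affineCoord]
    field_simp
    ring

variable {K : Type u} [Field K] [Algebra k K]

/-- Power series as elements of their fraction field. -/
abbrev Lk (K : Type u) [Field K] : Type u := FractionRing (PowerSeries K)

/-- The inclusion of power series into their fraction field. -/
def toLk : PowerSeries K →ₐ[k] Lk K := IsScalarTower.toAlgHom k _ _

theorem toLk_injective : Function.Injective (toLk (k := k) (K := K)) :=
  IsFractionRing.injective (PowerSeries K) (Lk K)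

/-- Polynomials as power series. -/
def toPS : K[X] →ₐ[k] PowerSeries K := (Polynomial.coeToPowerSeries.algHom K).restrictScalars k

@[simp] theorem toPS_apply (p : K[X]) : toPS (k := k) p = (p : PowerSeries K) := by
  simp [toPS, Polynomial.coeToPowerSeries.algHom_apply]

theorem dvd_aeval_sub {A : Type u} [CommRing A] [Algebra k A] {ι : Type} (I : Ideal A) (z z' : ι → A)
    (h : ∀ i, z i - z' i ∈ I) (P : MvPolynomial ι k) :
    MvPolynomial.aeval z P - MvPolynomial.aeval z' P ∈ I := by
  rw [← Ideal.Quotient.eq, ← Ideal.Quotient.mkₐ_eq_mk k, ← AlgHom.comp_apply, ← AlgHom.comp_apply,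
    MvPolynomial.comp_aeval, MvPolynomial.comp_aeval]
  exact congrArg (fun v => MvPolynomial.aeval (R := k) v P) (funext fun i => Ideal.Quotient.eq.2 (h i))

theorem coeff_eq_of_mem {N j : ℕ} {z z' : PowerSeries K}
    (h : z - z' ∈ Ideal.span {(PowerSeries.X : PowerSeries K) ^ N}) (hj : j < N) :
    PowerSeries.coeff j z = PowerSeries.coeff j z' := by
  rw [Ideal.mem_span_singleton, PowerSeries.X_pow_dvd_iff] at h
  simpa [sub_eq_zero] using h j hj

theorem exists_coeff_ne_zero {z : PowerSeries K} (hz : z ≠ 0) :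
    ∃ o, PowerSeries.coeff o z ≠ 0 ∧ ∀ j < o, PowerSeries.coeff j z = 0 := by
  classical
  have h : ∃ o, PowerSeries.coeff o z ≠ 0 := by
    by_contra! h
    exact hz (PowerSeries.ext fun j => by simp [h j])
  exact ⟨Nat.find h, Nat.find_spec h, fun j hj => not_not.1 (Nat.find_min h hj)⟩

/-- Numerators and denominators of a congruent pair have the same limit at the origin. -/
theorem exists_div_X_pow {o : ℕ} {N D : K[X]} {u Q : PowerSeries K} {M : ℕ} (hM : o < M)
    (hQo : PowerSeries.coeff o Q ≠ 0) (hQ : ∀ j < o, PowerSeries.coeff j Q = 0)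
    (hD : (D : PowerSeries K) - Q ∈ Ideal.span {(PowerSeries.X : PowerSeries K) ^ M})
    (hN : (N : PowerSeries K) - u * Q ∈ Ideal.span {(PowerSeries.X : PowerSeries K) ^ M}) :
    ∃ N₁ D₁ : K[X], N = X ^ o * N₁ ∧ D = X ^ o * D₁ ∧ D₁.eval 0 ≠ 0 ∧
      N₁.eval 0 = PowerSeries.constantCoeff u * D₁.eval 0 := by
  have hDc : ∀ j ≤ o, D.coeff j = PowerSeries.coeff j Q := fun j hj => by
    rw [← Polynomial.coeff_coe]; exact coeff_eq_of_mem hD (by omega)
  have hQX : PowerSeries.X ^ o ∣ Q := PowerSeries.X_pow_dvd_iff.2 hQ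
  obtain ⟨Q₁, rfl⟩ := hQX
  have hNc : ∀ j ≤ o, N.coeff j = PowerSeries.coeff j (PowerSeries.X ^ o * (u * Q₁)) := fun j hj => by
    rw [← Polynomial.coeff_coe, ← mul_left_comm u]
    exact coeff_eq_of_mem hN (by omega)
  obtain ⟨D₁, rfl⟩ : X ^ o ∣ D := Polynomial.X_pow_dvd_iff.2 fun j hj => (hDc j hj.le).trans (hQ j hj)
  obtain ⟨N₁, rfl⟩ : X ^ o ∣ N := Polynomial.X_pow_dvd_iff.2 fun j hj => by
    rw [hNc j hj.le, PowerSeries.coeff_X_pow_mul', if_neg (by omega)]
  have h1 := hDc o le_rfl
  have h2 := hNc o le_rfl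
  rw [Polynomial.coeff_X_pow_mul', if_pos le_rfl, Nat.sub_self, PowerSeries.coeff_X_pow_mul',
    if_pos le_rfl, Nat.sub_self, PowerSeries.coeff_zero_eq_constantCoeff] at h1 h2
  rw [PowerSeries.coeff_X_pow_mul', if_pos le_rfl, Nat.sub_self,
    PowerSeries.coeff_zero_eq_constantCoeff] at hQo
  refine ⟨N₁, D₁, rfl, rfl, ?_, ?_⟩
  · rw [← Polynomial.coeff_zero_eq_eval_zero, h1]; exact hQo
  · rw [← Polynomial.coeff_zero_eq_eval_zero, ← Polynomial.coeff_zero_eq_eval_zero, h1, h2, map_mul]

/-- Evaluation of a function on a basic open of the line at one of its points. -/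
def evAway (h₀ : K[X]) (t : K) (ht : h₀.eval t ≠ 0) : Localization.Away h₀ →ₐ[k] K :=
  IsLocalization.liftAlgHom (M := Submonoid.powers h₀) (f := evHom t) fun s => by
    obtain ⟨_, m, rfl⟩ := s
    simpa [evHom] using (pow_ne_zero m ht).isUnit

theorem evAway_algebraMap (h₀ : K[X]) (t : K) (ht : h₀.eval t ≠ 0) (p : K[X]) :
    evAway (k := k) h₀ t ht (algebraMap K[X] _ p) = p.eval t := by
  simp [evAway, evHom]

theorem exists_finite_gens {B : Type u} [CommRing B] [Algebra k B] [Algebra.FiniteType k B] (h : B) :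
    ∃ S : Finset B, h ∈ S ∧ Algebra.adjoin k (S : Set B) = ⊤ := by
  classical
  obtain ⟨S, hS⟩ := Algebra.FiniteType.out (R := k) (A := B)
  exact ⟨insert h S, Finset.mem_insert_self _ _, top_le_iff.1 (hS ▸ Algebra.adjoin_mono (by simp))⟩

/-- An arc whose generic point factors through an open piece of affine space is approximated, near
the origin, by a rational curve which avoids a given proper closed subset. -/
theorem exists_curve [Infinite K] {B : Type u} [CommRing B] [Algebra k B] [Algebra.FiniteType k B]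
    (φ : B →ₐ[k] PowerSeries K) {h : B} (hh : φ h ≠ 0) (a : Fin n → Lk K) (g : MvPolynomial (Fin n) k)
    (hg : MvPolynomial.aeval a g ≠ 0) (β : B →ₐ[k] Localization.Away g)
    (γ : Localization.Away g →ₐ[k] Lk K)
    (hγ : ∀ P : MvPolynomial (Fin n) k, γ (algebraMap _ _ P) = MvPolynomial.aeval a P) (hφ : ∀ b, toLk (k := k) (φ b) = γ (β b)) :
    ∃ (h₀ : K[X]) (ψ : B →ₐ[k] Localization.Away h₀) (h0 : h₀.eval 0 ≠ 0) (t : K) (ht : h₀.eval t ≠ 0),
      (∀ b, evAway (k := k) h₀ 0 h0 (ψ b) = PowerSeries.constantCoeff (φ b)) ∧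
        evAway (k := k) h₀ t ht (ψ h) ≠ 0 := by
  classical
  obtain ⟨S, hhS, hS⟩ := exists_finite_gens (k := k) h
  -- homogeneous coordinates
  obtain ⟨⟨d, hd⟩, hda⟩ := IsLocalization.exist_integer_multiples_of_finite (nonZeroDivisors (PowerSeries K)) a
  choose c hc using hda
  let α : Option (Fin n) → PowerSeries K := fun o => o.elim d c
  have hα0 : toLk (k := k) (α none) ≠ 0 :=
    (map_ne_zero_iff _ toLk_injective).2 (nonZeroDivisors.ne_zero hd)
  have hαa : affineCoord (fun o => toLk (k := k) (α o)) = a := funext fun i => by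
    show toLk (k := k) (c i) / toLk (k := k) d = a i
    rw [div_eq_iff (show toLk (k := k) d ≠ 0 from hα0)]
    refine (hc i).trans ?_
    show d • a i = _
    rw [Algebra.smul_def, mul_comm]
    rfl
  have hαaev : ∀ P : MvPolynomial (Option (Fin n)) k,
      MvPolynomial.aeval (fun o => toLk (k := k) (α o)) P = toLk (MvPolynomial.aeval α P) := fun P =>
    (MvPolynomial.comp_aeval_apply α (toLk (k := k)) P).symm
  -- numerators and denominators
  obtain ⟨Dg, gH, hgH⟩ := exists_homog g
  have key : ∀ b : B, ∃ N D : MvPolynomial (Option (Fin n)) k,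
      MvPolynomial.aeval α D ≠ 0 ∧ MvPolynomial.aeval α N = φ b * MvPolynomial.aeval α D ∧
      ∀ (L : Type u) [Field L] [Algebra k L] (z : Option (Fin n) → L), z none ≠ 0 →
        MvPolynomial.aeval (affineCoord z) g ≠ 0 → ∀ γ' : Localization.Away g →ₐ[k] L,
        (∀ P : MvPolynomial (Fin n) k, γ' (algebraMap _ _ P) = MvPolynomial.aeval (affineCoord z) P) →
        γ' (β b) * MvPolynomial.aeval z D = MvPolynomial.aeval z N := by
    intro b
    obtain ⟨G, ⟨_, e, rfl⟩, he⟩ := IsLocalization.exists_mk'_eq (Submonoid.powers g) (β b)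
    obtain ⟨DG, GH, hGH⟩ := exists_homog G
    let D := gH ^ e * MvPolynomial.X none ^ DG
    let N := GH * MvPolynomial.X none ^ (e * Dg)
    have hgen : ∀ (L : Type u) [Field L] [Algebra k L] (z : Option (Fin n) → L), z none ≠ 0 →
        MvPolynomial.aeval (affineCoord z) g ≠ 0 → ∀ γ' : Localization.Away g →ₐ[k] L,
        (∀ P : MvPolynomial (Fin n) k, γ' (algebraMap _ _ P) = MvPolynomial.aeval (affineCoord z) P) →
        γ' (β b) * MvPolynomial.aeval z D = MvPolynomial.aeval z N := by
      intro L _ _ z hz _ γ' hγ'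
      have h1 : γ' (β b) * MvPolynomial.aeval (affineCoord z) g ^ e =
          MvPolynomial.aeval (affineCoord z) G := by
        rw [← map_pow, ← hγ', ← hγ', ← map_mul, ← he, IsLocalization.mk'_spec]
      simp only [D, N, map_mul, map_pow, MvPolynomial.aeval_X, hgH L z hz, hGH L z hz, ← h1]
      ring
    have hgz : MvPolynomial.aeval (affineCoord (fun o => toLk (k := k) (α o))) g ≠ 0 := by rwa [hαa]
    have hDα : MvPolynomial.aeval α D ≠ 0 := by
      intro h0
      have := (hαaev D).trans (by rw [h0, map_zero])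
      simp only [D, map_mul, map_pow, MvPolynomial.aeval_X, hgH (Lk K) (fun o => toLk (k := k) (α o)) hα0, mul_eq_zero,
        pow_eq_zero_iff', hgz, hα0, false_and, or_self] at this
    refine ⟨N, D, hDα, toLk_injective (k := k) ?_, hgen⟩
    rw [map_mul (toLk (k := k)), ← hαaev, ← hαaev, hφ]
    exact (hgen (Lk K) (fun o => toLk (k := k) (α o)) hα0 hgz γ (fun P => by rw [hαa]; exact hγ P)).symm
  choose Nb Db hDb hNb hgenb using key
  choose o ho ho' using fun b => exists_coeff_ne_zero (hDb b)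
  have hgα : MvPolynomial.aeval α gH ≠ 0 := by
    intro h0
    have := (hαaev gH).trans (by rw [h0, map_zero])
    rw [hgH (Lk K) (fun o => toLk (k := k) (α o)) hα0, hαa, mul_eq_zero, pow_eq_zero_iff'] at this
    rcases this with h1 | h1
    · exact hα0 h1.1
    · exact hg h1
  obtain ⟨og, hog, -⟩ := exists_coeff_ne_zero hgα
  obtain ⟨od, hod, -⟩ := exists_coeff_ne_zero (nonZeroDivisors.ne_zero hd : α none ≠ 0)
  obtain ⟨oh, hoh, -⟩ := exists_coeff_ne_zero (show φ h * MvPolynomial.aeval α (Db h) ≠ 0 from mul_ne_zero hh (hDb h))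
  let M := og + od + oh + S.sup o + 1
  -- truncation
  let π : Option (Fin n) → K[X] := fun j => PowerSeries.trunc M (α j)
  have hπ : ∀ j, (π j : PowerSeries K) - α j ∈ Ideal.span {(PowerSeries.X : PowerSeries K) ^ M} := fun j => by
    rw [Ideal.mem_span_singleton, PowerSeries.X_pow_dvd_iff]
    intro i hi
    rw [map_sub, Polynomial.coeff_coe, PowerSeries.coeff_trunc, if_pos hi, sub_self]
  have hπev : ∀ P : MvPolynomial (Option (Fin n)) k,
      ((MvPolynomial.aeval π P : K[X]) : PowerSeries K) - MvPolynomial.aeval α P ∈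
        Ideal.span {(PowerSeries.X : PowerSeries K) ^ M} := fun P => by
    rw [← toPS_apply (k := k), MvPolynomial.comp_aeval_apply]
    exact dvd_aeval_sub _ _ _ (fun j => by rw [toPS_apply]; exact hπ j) P
  have hne : ∀ (P : MvPolynomial (Option (Fin n)) k) (j : ℕ), PowerSeries.coeff j (MvPolynomial.aeval α P) ≠ 0 →
      j < M → MvPolynomial.aeval π P ≠ 0 := fun P j hj hjM h0 => hj (by
    rw [← coeff_eq_of_mem (hπev P) hjM, h0, Polynomial.coe_zero, map_zero])
  have hπ0 : π none ≠ 0 := fun h0 =>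
    hne (MvPolynomial.X none) od (by rwa [MvPolynomial.aeval_X]) (by omega) (by rwa [MvPolynomial.aeval_X])
  let z : Option (Fin n) → Kx K := fun j => toKx (k := k) (π j)
  have hzaev : ∀ P : MvPolynomial (Option (Fin n)) k,
      MvPolynomial.aeval z P = toKx (MvPolynomial.aeval π P) := fun P =>
    (MvPolynomial.comp_aeval_apply π (toKx (k := k)) P).symm
  have hz0 : z none ≠ 0 := (map_ne_zero_iff _ toKx_injective).2 hπ0
  have hzg : MvPolynomial.aeval (affineCoord z) g ≠ 0 := by
    intro h0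
    have := hgH (Kx K) z hz0
    rw [h0, mul_zero, hzaev, map_eq_zero_iff _ toKx_injective] at this
    exact hne gH og hog (by omega) this
  let γz : Localization.Away g →ₐ[k] Kx K :=
    IsLocalization.liftAlgHom (M := Submonoid.powers g) (f := MvPolynomial.aeval (affineCoord z)) fun s => by
      obtain ⟨_, m, rfl⟩ := s
      simpa using (pow_ne_zero m hzg).isUnit
  have hγz : ∀ P : MvPolynomial (Fin n) k, γz (algebraMap _ _ P) = MvPolynomial.aeval (affineCoord z) P := fun P => by simp [γz]
  have hfrac : ∀ b ∈ S, ∃ N₁ D₁ : K[X], D₁.eval 0 ≠ 0 ∧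
      N₁.eval 0 = PowerSeries.constantCoeff (φ b) * D₁.eval 0 ∧
      γz (β b) * toKx (k := k) D₁ = toKx (k := k) N₁ ∧ MvPolynomial.aeval π (Nb b) = X ^ o b * N₁ := by
    intro b hb
    have hobM : o b < M := by have := Finset.le_sup (f := o) hb; omega
    obtain ⟨N₁, D₁, e1, e2, e3, e4⟩ := exists_div_X_pow (u := φ b) hobM (ho b) (ho' b) (hπev (Db b))
      (by rw [← hNb]; exact hπev (Nb b))
    refine ⟨N₁, D₁, e3, e4, ?_, e1⟩
    have := hgenb b (Kx K) z hz0 hzg γz hγz
    rw [hzaev, hzaev, e1, e2, map_mul, map_mul] at this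
    refine mul_left_cancel₀ ((map_ne_zero_iff (toKx (k := k) (K := K)) toKx_injective).2
      (pow_ne_zero (o b) Polynomial.X_ne_zero)) ?_
    rw [← this]
    ring
  choose N₁ D₁ hD0 hN0 hval hNfac using hfrac
  let h₀ : K[X] := ∏ b ∈ S.attach, D₁ b.1 b.2
  have h0 : h₀.eval 0 ≠ 0 := by
    rw [Polynomial.eval_prod]; exact Finset.prod_ne_zero_iff.2 fun b _ => hD0 b.1 b.2
  have hh₀' : h₀ ≠ 0 := fun h => h0 (by rw [h, Polynomial.eval_zero])
  have hh₀ : toKx (k := k) h₀ ≠ 0 := (map_ne_zero_iff _ toKx_injective).2 hh₀'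
  let ιA : Localization.Away h₀ →ₐ[k] Kx K :=
    IsLocalization.liftAlgHom (M := Submonoid.powers h₀) (f := toKx) fun s => by
      obtain ⟨_, m, rfl⟩ := s
      simpa using (pow_ne_zero m hh₀).isUnit
  have hιA : ∀ p : K[X], ιA (algebraMap _ _ p) = toKx (k := k) p := fun p => by simp [ιA]
  have hιinj : Function.Injective ιA := by
    have := (IsLocalization.lift_injective_iff (M := Submonoid.powers h₀) (S := Localization.Away h₀)
      (g := (toKx (k := k) (K := K)).toRingHom) fun s => by
        obtain ⟨_, m, rfl⟩ := s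
        simpa using (pow_ne_zero m hh₀).isUnit)
    refine this.2 fun x y => ?_
    rw [(IsLocalization.injective (Localization.Away h₀) (powers_le_nonZeroDivisors_of_noZeroDivisors hh₀')).eq_iff]
    exact toKx_injective.eq_iff.symm
  have hgenrange : ∀ b (hb : b ∈ S), ∃ q : Localization.Away h₀,
      ιA q = γz (β b) ∧ q * algebraMap _ _ (D₁ b hb) = algebraMap _ _ (N₁ b hb) := by
    intro b hb
    obtain ⟨r, hr⟩ : D₁ b hb ∣ h₀ :=
      Finset.dvd_prod_of_mem (fun c : S => D₁ c.1 c.2) (Finset.mem_attach S ⟨b, hb⟩)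
    let q := IsLocalization.mk' (Localization.Away h₀) (N₁ b hb * r)
      (⟨h₀, 1, pow_one _⟩ : Submonoid.powers h₀)
    have hspec : q * algebraMap _ _ h₀ = algebraMap _ _ (N₁ b hb * r) :=
      IsLocalization.mk'_spec (Localization.Away h₀) (N₁ b hb * r) (⟨h₀, 1, pow_one _⟩ : Submonoid.powers h₀)
    have hq : q * algebraMap _ _ (D₁ b hb) = algebraMap _ _ (N₁ b hb) := by
      have hr0 : r ≠ 0 := fun h => h0 (by rw [hr, h, mul_zero, Polynomial.eval_zero])
      apply hιinj
      refine mul_right_cancel₀ ((map_ne_zero_iff (toKx (k := k) (K := K)) toKx_injective).2 hr0) ?_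
      rw [← hιA r, ← map_mul, ← map_mul, mul_assoc, ← map_mul, ← hr, hspec, map_mul]
    refine ⟨q, ?_, hq⟩
    have := congrArg ιA hq
    rw [map_mul, hιA, hιA, ← hval b hb] at this
    exact mul_right_cancel₀ ((map_ne_zero_iff (toKx (k := k) (K := K)) toKx_injective).2
      fun h => hD0 b hb (by rw [h, Polynomial.eval_zero])) this
  have hmem : ∀ b : B, (γz.comp β) b ∈ ιA.range := by
    intro b
    have hle : Algebra.adjoin k (S : Set B) ≤ ιA.range.comap (γz.comp β) :=
      Algebra.adjoin_le fun b hb => by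
        obtain ⟨q, hq, -⟩ := hgenrange b hb
        exact ⟨q, hq⟩
    exact hle (hS ▸ Algebra.mem_top)
  let ψ : B →ₐ[k] Localization.Away h₀ :=
    (AlgEquiv.ofInjective ιA hιinj).symm.toAlgHom.comp ((γz.comp β).codRestrict ιA.range hmem)
  have hψ : ∀ b, ιA (ψ b) = γz (β b) := fun b =>
    congrArg Subtype.val ((AlgEquiv.ofInjective ιA hιinj).apply_symm_apply ⟨_, hmem b⟩)
  have hev : ∀ (t : K) (ht : h₀.eval t ≠ 0) (b : B) (hb : b ∈ S),
      evAway (k := k) h₀ t ht (ψ b) * (D₁ b hb).eval t = (N₁ b hb).eval t := by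
    intro t ht b hb
    obtain ⟨q, hq, hq'⟩ := hgenrange b hb
    have : ψ b = q := hιinj ((hψ b).trans hq.symm)
    rw [this, ← evAway_algebraMap (k := k) h₀ t ht, ← map_mul, hq', evAway_algebraMap]
  have hNh : N₁ h hhS ≠ 0 := by
    intro h0'
    refine hne (Nb h) oh (by rw [hNb]; exact hoh) (by omega) ?_
    rw [hNfac h hhS, h0', mul_zero]
  obtain ⟨t, ht⟩ : ∃ t, (h₀ * N₁ h hhS).eval t ≠ 0 := by
    by_contra! hall
    exact mul_ne_zero hh₀' hNh (Polynomial.funext fun x => by rw [hall x, Polynomial.eval_zero])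
  rw [Polynomial.eval_mul, mul_ne_zero_iff] at ht
  refine ⟨h₀, ψ, h0, t, ht.1, fun b => ?_, fun h' => ht.2 ?_⟩
  · let cc : PowerSeries K →ₐ[k] K := AlgHom.mk (R := k) (PowerSeries.constantCoeff (R := K)) fun r => by
      simp [IsScalarTower.algebraMap_apply k K (PowerSeries K)]
    have : (evAway (k := k) h₀ 0 h0).comp ψ = cc.comp φ := by
      refine AlgHom.ext_of_adjoin_eq_top hS fun b hb => ?_
      exact mul_right_cancel₀ (hD0 b hb) ((hev 0 h0 b hb).trans (hN0 b hb))
    exact AlgHom.congr_fun this b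
  · rw [← hev t ht.1 h hhS, h', zero_mul]

end Groth.Agent.ReqArc45
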