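import Mathlib.RingTheory.AdicCompletion.Completeness
import Mathlib.RingTheory.AdicCompletion.RingHom
import Mathlib.RingTheory.PowerSeries.Inverse
import Mathlib.RingTheory.Etale.Basic
import Mathlib.RingTheory.RingHom.StandardSmooth
import Mathlib.RingTheory.Unramified.Finite
import Mathlib.RingTheory.Flat.TorsionFree
import Mathlib.RingTheory.Artinian.Module
import Mathlib.RingTheory.TensorProduct.Finite
import Mathlib.RingTheory.Localization.BaseChange
import Mathlib.Algebra.MvPolynomial.Funext

/-!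
# Arcs through rational points of smooth algebras
-/

set_option autoImplicit false
set_option linter.style.haveILetI false

universe u

open PowerSeries TensorProduct

noncomputable section

namespace Groth.Agent.ReqArc45

/-- Points of formally smooth algebras lift to power series. -/
theorem exists_lift_powerSeries {A B R' : Type u} [CommRing A] [CommRing B] [Algebra A B]
    [Algebra.FormallySmooth A B] [CommRing R'] (c : A →+* R'⟦X⟧) (f₁ : B →+* R')
    (h₁ : f₁.comp (algebraMap A B) = PowerSeries.constantCoeff.comp c) :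
    ∃ F : B →+* R'⟦X⟧, F.comp (algebraMap A B) = c ∧ ∀ b, constantCoeff (F b) = f₁ b := by
  let : Algebra A R'⟦X⟧ := c.toAlgebra
  let J : Ideal R'⟦X⟧ := Ideal.span {PowerSeries.X}
  have hmk : ∀ z : R'⟦X⟧, Ideal.Quotient.mk (J ^ 1) (PowerSeries.C (PowerSeries.constantCoeff z)) =
      Ideal.Quotient.mk (J ^ 1) z := fun z => by
    rw [Ideal.Quotient.eq, pow_one, Ideal.mem_span_singleton, PowerSeries.X_dvd_iff, map_sub,
      PowerSeries.constantCoeff_C, sub_self]
  let F₁ : B →ₐ[A] R'⟦X⟧ ⧸ J ^ 1 :=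
    { ((Ideal.Quotient.mk (J ^ 1)).comp PowerSeries.C).comp f₁ with
      commutes' := fun a => by
        show Ideal.Quotient.mk (J ^ 1) (PowerSeries.C (f₁ (algebraMap A B a))) = _
        rw [show f₁ (algebraMap A B a) = PowerSeries.constantCoeff (c a) from congr($h₁ a), hmk]
        rfl }
  let q : ∀ n, (R'⟦X⟧ ⧸ J ^ (n + 2)) →ₐ[A] R'⟦X⟧ ⧸ J ^ (n + 1) := fun n =>
    Ideal.Quotient.factorₐ A (Ideal.pow_le_pow_right (Nat.le_succ _))
  have hq : ∀ n, Function.Surjective (q n) := fun n => Ideal.Quotient.factor_surjective (Ideal.pow_le_pow_right (Nat.le_succ _))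
  have hqn : ∀ n, IsNilpotent (RingHom.ker (q n : (R'⟦X⟧ ⧸ J ^ (n + 2)) →+* R'⟦X⟧ ⧸ J ^ (n + 1))) := fun n => by
    refine ⟨2, ?_⟩
    have hk : RingHom.ker (q n : (R'⟦X⟧ ⧸ J ^ (n + 2)) →+* R'⟦X⟧ ⧸ J ^ (n + 1)) ≤
        (J ^ (n + 1)).map (Ideal.Quotient.mk (J ^ (n + 2))) := fun z hz => by
      obtain ⟨z, rfl⟩ := Ideal.Quotient.mk_surjective z
      refine Ideal.mem_map_of_mem _ (Ideal.Quotient.eq_zero_iff_mem.1 ?_)
      have : q n (Ideal.Quotient.mk _ z) = 0 := hz
      exact this
    refine le_bot_iff.1 ((Ideal.pow_right_mono hk 2).trans ?_)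
    rw [← Ideal.map_pow, ← Ideal.map_quotient_self (J ^ (n + 2)), ← pow_mul]
    exact Ideal.map_mono (Ideal.pow_le_pow_right (by omega))
  let F : ∀ n, B →ₐ[A] R'⟦X⟧ ⧸ J ^ (n + 1) := fun n =>
    Nat.rec F₁ (fun m g => Algebra.FormallySmooth.liftOfSurjective g (q m) (hq m) (hqn m)) n
  have hF : ∀ n x, q n (F (n + 1) x) = F n x := fun n x =>
    Algebra.FormallySmooth.liftOfSurjective_apply (F n) (q n) (hq n) (hqn n) x
  let fn : ∀ n, B →ₐ[A] R'⟦X⟧ ⧸ J ^ n := fun n =>
    (Ideal.Quotient.factorₐ A (Ideal.pow_le_pow_right (Nat.le_succ n))).comp (F n)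
  have hfn : ∀ {m n : ℕ} (hle : m ≤ n),
      (Ideal.Quotient.factorₐ A (Ideal.pow_le_pow_right hle)).comp (fn n) = fn m := by
    intro m n hle
    induction n, hle using Nat.le_induction with
    | base =>
      refine AlgHom.ext fun x => ?_
      obtain ⟨z, hz⟩ := Ideal.Quotient.mk_surjective (fn m x)
      show Ideal.Quotient.factor (le_refl (J ^ m)) (fn m x) = fn m x
      rw [← hz]
      rfl
    | succ n hmn ih =>
      refine AlgHom.ext fun x => ?_
      rw [← ih]
      show Ideal.Quotient.factor (Ideal.pow_le_pow_right (hmn.trans (Nat.le_succ n)))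
          (Ideal.Quotient.factor (Ideal.pow_le_pow_right (Nat.le_succ (n + 1))) (F (n + 1) x)) =
        Ideal.Quotient.factor (Ideal.pow_le_pow_right hmn)
          (Ideal.Quotient.factor (Ideal.pow_le_pow_right (Nat.le_succ n)) (F n x))
      rw [← hF n x]
      obtain ⟨z, hz⟩ := Ideal.Quotient.mk_surjective (F (n + 1) x)
      rw [← hz]
      rfl
  refine ⟨(IsAdicComplete.liftAlgHom J fn hfn).toRingHom,
    RingHom.ext fun a => (IsAdicComplete.liftAlgHom J fn hfn).commutes a, fun b => ?_⟩
  have h := IsAdicComplete.mk_liftAlgHom J fn hfn 1 b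
  have h2 : fn 1 b = F₁ b := by
    show Ideal.Quotient.factor (Ideal.pow_le_pow_right (Nat.le_succ 1)) (F 1 b) = F₁ b
    exact hF 0 b
  have h3 : Ideal.Quotient.mk (J ^ 1) ((IsAdicComplete.liftAlgHom J fn hfn) b) =
      Ideal.Quotient.mk (J ^ 1) (PowerSeries.C (f₁ b)) := h.trans h2
  rw [Ideal.Quotient.eq, pow_one, Ideal.mem_span_singleton, PowerSeries.X_dvd_iff, map_sub,
    PowerSeries.constantCoeff_C, sub_eq_zero] at h3
  exact h3

/-- In a domain etale over a domain every nonzero element divides a nonzero element of the base. -/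
theorem exists_dvd_algebraMap {P B : Type u} [CommRing P] [IsDomain P] [CommRing B] [IsDomain B]
    [Algebra P B] [Algebra.Etale P B] {h : B} (hh : h ≠ 0) :
    ∃ c : P, c ≠ 0 ∧ h ∣ algebraMap P B c := by
  have hinj : Function.Injective (algebraMap P B) := by
    rw [injective_iff_map_eq_zero]
    intro r hr
    by_contra hne
    have := Module.Flat.isSMulRegular_of_isRegular (M := B) (IsRegular.of_ne_zero hne)
    exact one_ne_zero (this (show r • (1 : B) = r • (0 : B) by rw [Algebra.smul_def, hr, zero_mul, smul_zero]))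
  let F := FractionRing P
  let T := F ⊗[P] B
  let : Algebra B T := Algebra.TensorProduct.rightAlgebra
  have : IsLocalization (Algebra.algebraMapSubmonoid B (nonZeroDivisors P)) T :=
    inferInstanceAs (IsLocalization (Algebra.algebraMapSubmonoid B (nonZeroDivisors P)) (F ⊗[P] B))
  have hS : Algebra.algebraMapSubmonoid B (nonZeroDivisors P) ≤ nonZeroDivisors B := by
    rintro _ ⟨s, hs, rfl⟩
    exact mem_nonZeroDivisors_of_ne_zero ((map_ne_zero_iff _ hinj).2 (nonZeroDivisors.ne_zero hs))
  have : Module.Finite F T := Algebra.FormallyUnramified.finite_of_free F T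
  have : IsDomain T := IsLocalization.isDomain_of_le_nonZeroDivisors T hS
  have : IsArtinianRing T := IsArtinianRing.of_finite F T
  have hu : IsUnit (algebraMap B T h) := by
    refine IsArtinianRing.isUnit_of_mem_nonZeroDivisors (mem_nonZeroDivisors_of_ne_zero ?_)
    exact (map_ne_zero_iff _ (IsLocalization.injective T hS)).2 hh
  obtain ⟨⟨b, ⟨_, s, hs, rfl⟩⟩, hb⟩ :=
    IsLocalization.surj (Algebra.algebraMapSubmonoid B (nonZeroDivisors P)) (↑hu.unit⁻¹ : T)
  refine ⟨s, nonZeroDivisors.ne_zero hs, b, IsLocalization.injective T hS ?_⟩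
  rw [map_mul, ← hb, ← mul_assoc, IsUnit.mul_val_inv, one_mul]

/-- An arc through a rational point of a smooth domain not contained in a given closed subset. -/
theorem exists_arc {k K B : Type u} [Field k] [Field K] [Algebra k K] [Infinite K] [CommRing B]
    [IsDomain B] [Algebra k B] (m : ℕ) [Algebra.IsStandardSmoothOfRelativeDimension m k B]
    (φ₀ : B →ₐ[k] K) {h : B} (hh : h ≠ 0) :
    ∃ φ : B →ₐ[k] K⟦X⟧, (∀ b, constantCoeff (φ b) = φ₀ b) ∧ φ h ≠ 0 := by
  obtain ⟨g, hg⟩ := Algebra.IsStandardSmoothOfRelativeDimension.exists_etale_mvPolynomial (n := m) k B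
  let : Algebra (MvPolynomial (Fin m) k) B := g.toRingHom.toAlgebra
  have : Algebra.Etale (MvPolynomial (Fin m) k) B := hg
  obtain ⟨c, hc, hdvd⟩ := exists_dvd_algebraMap (P := MvPolynomial (Fin m) k) hh
  let p : Fin m → K := fun j => φ₀ (g (MvPolynomial.X j))
  have hcK : MvPolynomial.map (algebraMap k K) c ≠ 0 :=
    fun h0 => hc (MvPolynomial.map_injective _ (algebraMap k K).injective (h0.trans (map_zero _).symm))
  obtain ⟨q, hq⟩ : ∃ q : Fin m → K, MvPolynomial.eval q (MvPolynomial.map (algebraMap k K) c) ≠ 0 := by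
    by_contra! h0
    exact hcK (MvPolynomial.funext fun x => by rw [h0 x, map_zero])
  let line : Fin m → Polynomial K := fun j => Polynomial.C (p j) + Polynomial.C (q j - p j) * Polynomial.X
  let cl : MvPolynomial (Fin m) k →ₐ[k] K⟦X⟧ :=
    ((Polynomial.coeToPowerSeries.algHom K).restrictScalars k).comp (MvPolynomial.aeval line)
  have hcc : ∀ P, constantCoeff (cl P) = φ₀ (g P) := by
    intro P
    have : ((AlgHom.mk (R := k) (constantCoeff (R := K)) fun r => by
        simp [IsScalarTower.algebraMap_apply k K K⟦X⟧]).comp cl) = φ₀.comp g :=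
      MvPolynomial.algHom_ext fun j => by simp [cl, line, p, Polynomial.coeToPowerSeries.algHom_apply]
    exact AlgHom.congr_fun this P
  obtain ⟨F, hF, hF₀⟩ := exists_lift_powerSeries (A := MvPolynomial (Fin m) k) cl.toRingHom φ₀.toRingHom
    (RingHom.ext fun P => (hcc P).symm)
  refine ⟨{ F with commutes' := fun r => ?_ }, hF₀, fun h0 => ?_⟩
  · show F (algebraMap k B r) = _
    rw [← g.commutes r]
    exact (congr($hF _)).trans (cl.commutes r)
  · obtain ⟨b, hb⟩ := hdvd
    have hclc : cl c = 0 := by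
      refine (congr($hF c)).symm.trans ?_
      show F (algebraMap _ B c) = 0
      rw [hb, map_mul, show F h = 0 from h0, zero_mul]
    have hline : MvPolynomial.aeval line c = 0 := by
      refine Polynomial.coe_injective (R := K) ?_
      rw [Polynomial.coe_zero]
      simpa [cl, Polynomial.coeToPowerSeries.algHom_apply] using hclc
    refine hq ?_
    have h1 := congrArg (Polynomial.eval (1 : K)) hline
    rw [Polynomial.eval_zero] at h1
    rw [MvPolynomial.eval_map]
    refine Eq.trans ?_ h1
    show _ = Polynomial.evalRingHom (1 : K) (MvPolynomial.aeval line c)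
    rw [MvPolynomial.aeval_def, MvPolynomial.eval₂_comp_left (Polynomial.evalRingHom (1 : K))]
    congr 1
    · ext r; simp
    · funext j; simp [line]

end Groth.Agent.ReqArc45
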