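import Groth.Agent.ReqArc45.Arc
import Groth.Agent.ReqArc45.Approx
import Groth.Agent.ReqForms45.Points
import Groth.Agent.H23.P1Charts
import Groth.Agent.DRHyp.Local
import Groth.Prelude.Def_W4c5nonratstablectREq
import Mathlib.AlgebraicGeometry.FunctionField

/-!
# Every point of a smooth retract rational variety is linked to a general one
-/

set_option autoImplicit false
set_option linter.style.haveILetI false

universe u

open CategoryTheory AlgebraicGeometry Opposite Polynomial

noncomputable section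

namespace Groth.Agent.ReqArc45

open Groth.Agent.ReqForms45

variable {k : Type u} [Field k] {X : Scheme.{u}} {f : X ⟶ Spec (CommRingCat.of k)}

/-- A point of a local ring lying in an affine open factors through it. -/
theorem exists_factor_of_mem {A : Type u} [CommRing A] [Algebra k A] [IsLocalRing A]
    (x : Spec (CommRingCat.of A) ⟶ X) (hx : x ≫ f = Spec.map (CommRingCat.ofHom (algebraMap k A)))
    (V : X.affineOpens) (hV : x (IsLocalRing.closedPoint A) ∈ V.1) :
    ∃ ψ : Sec f V.1 →ₐ[k] A, pointOf V ψ = x := by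
  obtain ⟨W, ψ, hW, hψ⟩ := exists_factor x hx V.1 hV
  exact ⟨ψ.comp (secRes f hW), by
    rw [pointOf, specA_comp, Category.assoc]
    exact (congrArg (specA ψ ≫ ·) (fromSec_res hW)).trans hψ⟩

theorem basicOpen_mem_iff {A : Type u} [Field A] [Algebra k A] (V : X.affineOpens)
    (ψ : Sec f V.1 →ₐ[k] A) (h : Sec f V.1) (p : Spec (CommRingCat.of A)) :
    pointOf V ψ p ∈ X.basicOpen (show Γ(X, V.1) from h) ↔ ψ h ≠ 0 := by
  show specA ψ p ∈ fromSec f V ⁻¹ᵁ X.basicOpen (show Γ(X, V.1) from h) ↔ _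
  have : fromSec f V ⁻¹ᵁ X.basicOpen (show Γ(X, V.1) from h) =
      (PrimeSpectrum.basicOpen h : TopologicalSpace.Opens (PrimeSpectrum (Sec f V.1))) :=
    V.2.fromSpec_preimage_basicOpen h
  rw [this]
  show ψ h ∉ (p : PrimeSpectrum A).asIdeal ↔ _
  rw [((p : PrimeSpectrum A).asIdeal.eq_bot_or_top).resolve_right (p : PrimeSpectrum A).2.ne_top,
    Ideal.mem_bot]

/-- The algebraic link: a rational curve inside an affine chart. -/
theorem elemLink_of_curve {K : Type u} [Field K] [Algebra k K] (V : X.affineOpens) (h₀ : K[X])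
    (ψ : Sec f V.1 →ₐ[k] Localization.Away h₀) (A B : REq.Pts f K) (s t : K) (hs : h₀.eval s ≠ 0)
    (ht : h₀.eval t ≠ 0) (hA : pointOf V ((evAway h₀ s hs).comp ψ) = A.1)
    (hB : pointOf V ((evAway h₀ t ht).comp ψ) = B.1) : REq.ElemLink f K A B := by
  let l : Spec (CommRingCat.of (Localization.Away h₀)) ⟶ Spec (CommRingCat.of K[X]) :=
    Spec.map (CommRingCat.ofHom (algebraMap K[X] (Localization.Away h₀)))
  have : IsOpenImmersion l := IsOpenImmersion.of_isLocalization h₀
  let j := l ≫ H23.P1Charts.chart K 0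
  have hj : j ≫ REq.P1K.toSpec K ≫ REq.specMap k K =
      Spec.map (CommRingCat.ofHom (algebraMap k (Localization.Away h₀))) := by
    show (l ≫ H23.P1Charts.chart K 0) ≫ _ = _
    rw [Category.assoc]
    refine (congrArg (l ≫ ·) ((Category.assoc _ _ _).symm.trans
      (congrArg (· ≫ REq.specMap k K) (H23.P1Charts.chart_toBase K 0)))).trans ?_
    simp only [l, REq.specMap, ← Spec.map_comp, ← CommRingCat.ofHom_comp]
  have hpt : ∀ (r : K) (hr : h₀.eval r ≠ 0),
      (specA (evAway (k := k) h₀ r hr) ≫ j.isoOpensRange.hom) ≫ j.opensRange.ι ≫ REq.P1K.toSpec K = 𝟙 _ := by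
    intro r hr
    rw [Category.assoc, Scheme.Hom.isoOpensRange_hom_ι_assoc]
    show specA _ ≫ (l ≫ H23.P1Charts.chart K 0) ≫ _ = _
    rw [Category.assoc]
    refine (congrArg (fun z => specA (evAway (k := k) h₀ r hr) ≫ l ≫ z) (H23.P1Charts.chart_toBase K 0)).trans ?_
    simp only [l, ← Spec.map_comp, ← CommRingCat.ofHom_comp]
    rw [← Spec.map_id]
    congr 1
    ext a
    show evAway (k := k) h₀ r hr (algebraMap K[X] _ (C a)) = a
    rw [evAway_algebraMap, Polynomial.eval_C]
  refine ⟨j.opensRange, j.isoOpensRange.inv ≫ pointOf V ψ,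
    specA (evAway (k := k) h₀ s hs) ≫ j.isoOpensRange.hom,
    specA (evAway (k := k) h₀ t ht) ≫ j.isoOpensRange.hom, ?_, hpt s hs, hpt t ht, ?_, ?_⟩
  · rw [Category.assoc, pointOf, Category.assoc, fromSec_comp, specA_base, ← hj, Iso.inv_comp_eq,
      Scheme.Hom.isoOpensRange_hom_ι_assoc]
  · rw [Category.assoc, Iso.hom_inv_id_assoc, pointOf, ← Category.assoc, ← specA_comp]; exact hA
  · rw [Category.assoc, Iso.hom_inv_id_assoc, pointOf, ← Category.assoc, ← specA_comp]; exact hB

/-- On a smooth integral retract rational scheme every rational point is directly linked to a point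
of any given nonempty open. -/
theorem exists_elemLink_mem [IsIntegral X] [Smooth f] (hX : REq.IsRetractRational f) {K : Type u}
    [Field K] [Algebra k K] [Infinite K] (U : X.Opens) (hU : (U : Set X).Nonempty) (A : REq.Pts f K) :
    ∃ B : REq.Pts f K, REq.InOpen f U B ∧ REq.ElemLink f K A B := by
  obtain ⟨U₀, n, V', a, b, hne, hab, ha, hb⟩ := hX
  obtain ⟨W, hxW, hW, m, hm⟩ := DRHyp.exists_isChart (f := f) (A.1 (IsLocalRing.closedPoint K))
  let V : X.affineOpens := ⟨W, hW⟩
  have : Nonempty W := ⟨⟨_, hxW⟩⟩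
  have : IsDomain (Sec f W) := IsIntegral.component_integral W
  obtain ⟨φ₀, hφ₀⟩ := exists_factor_of_mem A.1 A.2 V hxW
  -- a basic open of the chart inside the given open
  obtain ⟨z, hzW, hzU⟩ := nonempty_preirreducible_inter W.2 (U ⊓ U₀).2 ⟨_, hxW⟩
    (nonempty_preirreducible_inter U.2 U₀.2 hU hne)
  obtain ⟨h, hhU, hzh⟩ := hW.exists_basicOpen_le ⟨z, hzU⟩ hzW
  have hh0 : (h : Sec f W) ≠ 0 := by
    intro h0
    rw [show h = 0 from h0, Scheme.basicOpen_zero] at hzh
    exact hzh
  have hm' : Algebra.IsStandardSmoothOfRelativeDimension m k (Sec f W) := hm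
  obtain ⟨φ, hφc, hφh⟩ := exists_arc m φ₀ hh0
  -- the generic point of the arc
  let ξ : Spec (CommRingCat.of (Lk K)) ⟶ X := pointOf V ((toLk (k := k)).comp φ)
  have hξh : ∀ p, ξ p ∈ X.basicOpen h := fun p =>
    (basicOpen_mem_iff V _ h p).2 ((map_ne_zero_iff (toLk (k := k) (K := K)) toLk_injective).2 hφh)
  have hξr : Set.range ξ ⊆ Set.range U₀.ι := by
    rw [Scheme.Opens.range_ι]
    rintro _ ⟨p, rfl⟩
    exact (hhU (hξh p)).2
  let η := IsOpenImmersion.lift U₀.ι ξ hξr
  have hη : η ≫ U₀.ι = ξ := IsOpenImmersion.lift_fac _ _ _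
  have hξf : ξ ≫ f = Spec.map (CommRingCat.ofHom (algebraMap k (Lk K))) := by
    simp only [ξ, pointOf, Category.assoc, fromSec_comp, specA_base]
  -- its coordinates in affine space
  let α₀ : CommRingCat.of (MvPolynomial (Fin n) k) ⟶ CommRingCat.of (Lk K) := Spec.preimage (η ≫ a ≫ V'.ι)
  have hα₀ : CommRingCat.ofHom (algebraMap k (MvPolynomial (Fin n) k)) ≫ α₀ =
      CommRingCat.ofHom (algebraMap k (Lk K)) := by
    apply Spec.map_injective
    rw [Spec.map_comp, Spec.map_preimage, Category.assoc, Category.assoc, ha, ← Category.assoc, hη, hξf]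
  let α : MvPolynomial (Fin n) k →ₐ[k] Lk K :=
    { α₀.hom with commutes' := fun r => congr(($hα₀).hom r) }
  have hα : specA α = η ≫ a ≫ V'.ι := Spec.map_preimage (η ≫ a ≫ V'.ι)
  -- a basic open of affine space mapping into the chart
  let O : V'.toScheme.Opens := (b ≫ U₀.ι) ⁻¹ᵁ X.basicOpen h
  let p₀ := IsLocalRing.closedPoint (Lk K)
  have hp₀ : (η ≫ a) p₀ ∈ O := by
    show ((η ≫ a) ≫ b ≫ U₀.ι) p₀ ∈ X.basicOpen h
    rw [Category.assoc, reassoc_of% hab, hη]
    exact hξh p₀
  obtain ⟨_, ⟨g, rfl⟩, hpg, hgO⟩ := PrimeSpectrum.isTopologicalBasis_basic_opens.exists_subset_of_mem_open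
    (show (V'.ι ((η ≫ a) p₀)) ∈
      ((V'.ι ''ᵁ O : (Spec (CommRingCat.of (MvPolynomial (Fin n) k))).Opens) : Set _)
      from ⟨_, hp₀, rfl⟩) (V'.ι ''ᵁ O).2
  have hαg : α g ≠ 0 := fun h0 => by
    have e : V'.ι ((η ≫ a) p₀) = specA α p₀ := by rw [hα]; rfl
    rw [e] at hpg
    refine hpg ?_
    show α g ∈ (p₀ : PrimeSpectrum (Lk K)).asIdeal
    rw [h0]; exact zero_mem _
  let l : Spec (CommRingCat.of (Localization.Away g)) ⟶ Spec (CommRingCat.of (MvPolynomial (Fin n) k)) :=
    Spec.map (CommRingCat.ofHom (algebraMap _ (Localization.Away g)))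
  have hlg : ∀ y, l y ∈ V'.ι ''ᵁ O := fun y => hgO
    ((PrimeSpectrum.localization_away_comap_range (Localization.Away g) g).le ⟨y, rfl⟩)
  have hlr : Set.range l ⊆ Set.range V'.ι := by
    rw [Scheme.Opens.range_ι]
    rintro _ ⟨y, rfl⟩
    obtain ⟨w, -, hw⟩ := hlg y
    rw [← hw]
    exact w.2
  let lV := IsOpenImmersion.lift V'.ι l hlr
  have hlV : lV ≫ V'.ι = l := IsOpenImmersion.lift_fac _ _ _
  have hbr : Set.range (lV ≫ b ≫ U₀.ι) ⊆ Set.range (fromSec f V) := by
    rw [range_fromSec]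
    rintro _ ⟨y, rfl⟩
    obtain ⟨w, hw, hwy⟩ := hlg y
    have : lV y = w := V'.ι.isOpenEmbedding.injective (by
      rw [← Scheme.Hom.comp_apply, hlV]; exact hwy.symm)
    show (b ≫ U₀.ι) (lV y) ∈ W
    rw [this]
    exact X.basicOpen_le _ hw
  let β₀ : CommRingCat.of (Sec f W) ⟶ CommRingCat.of (Localization.Away g) :=
    Spec.preimage (IsOpenImmersion.lift (fromSec f V) (lV ≫ b ≫ U₀.ι) hbr)
  have hβ₀ : Spec.map β₀ ≫ fromSec f V = lV ≫ b ≫ U₀.ι := by
    rw [Spec.map_preimage]; exact IsOpenImmersion.lift_fac _ _ _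
  have hβk : CommRingCat.ofHom (algebraMap k (Sec f W)) ≫ β₀ =
      CommRingCat.ofHom (algebraMap k (Localization.Away g)) := by
    apply Spec.map_injective
    rw [Spec.map_comp, ← fromSec_comp V, ← Category.assoc, hβ₀, Category.assoc, Category.assoc, hb,
      ← Category.assoc, hlV]
    simp only [l, ← Spec.map_comp, ← CommRingCat.ofHom_comp, ← IsScalarTower.algebraMap_eq]
  let β : Sec f W →ₐ[k] Localization.Away g := { β₀.hom with commutes' := fun r => congr(($hβk).hom r) }
  let γ : Localization.Away g →ₐ[k] Lk K :=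
    IsLocalization.liftAlgHom (M := Submonoid.powers g) (f := α) fun s => by
      obtain ⟨_, e, rfl⟩ := s
      simpa using (pow_ne_zero e hαg).isUnit
  have hγα : γ.comp (IsScalarTower.toAlgHom k (MvPolynomial (Fin n) k) (Localization.Away g)) = α :=
    AlgHom.ext fun P => by simp [γ]
  have hγV : specA γ ≫ lV = η ≫ a := by
    rw [← cancel_mono V'.ι, Category.assoc, hlV, Category.assoc, ← hα, ← hγα, specA_comp]
    rfl
  have hφβ : ∀ s, toLk (k := k) (φ s) = γ (β s) := by
    have e : pointOf V ((toLk (k := k)).comp φ) = pointOf V (γ.comp β) := by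
      show ξ = specA (γ.comp β) ≫ fromSec f V
      rw [specA_comp, Category.assoc]
      show ξ = specA γ ≫ Spec.map β₀ ≫ fromSec f V
      rw [hβ₀, ← Category.assoc, hγV, Category.assoc, reassoc_of% hab, hη]
    have h2 := Spec.map_injective ((cancel_mono (fromSec f V)).1 e)
    exact fun s => congr(($h2).hom s)
  have hαX : α = MvPolynomial.aeval (fun i => α (MvPolynomial.X i)) :=
    MvPolynomial.algHom_ext fun i => by simp
  have : Algebra.FiniteType k (Sec f W) := by
    have := hm'.isStandardSmooth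
    infer_instance
  obtain ⟨h₀, ψ, h0, t, ht, hψ0, hψt⟩ := exists_curve φ hφh (fun i => α (MvPolynomial.X i)) g
    (by rw [← hαX]; exact hαg) β γ (fun P => by rw [← hαX]; simp [γ]) hφβ
  let B : REq.Pts f K := ⟨pointOf V ((evAway h₀ t ht).comp ψ), by
    rw [pointOf, Category.assoc, fromSec_comp, specA_base]⟩
  refine ⟨B, ?_, elemLink_of_curve V h₀ ψ A B 0 t h0 ht ?_ rfl⟩
  · rintro _ ⟨p, rfl⟩
    exact (hhU ((basicOpen_mem_iff V _ h p).2 hψt)).1
  · rw [← hφ₀]
    congr 1
    exact AlgHom.ext fun s => (hψ0 s).trans (hφc s)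

end Groth.Agent.ReqArc45
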